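import Groth.Agent.H19Desc.QuotGraphMain
import Groth.Agent.H13AlgSp.Refinement
import Groth.Agent.H13AlgSp.LocPDescent
import Mathlib

/-!
# Effective equivalence relations and quotient sheaves
-/

set_option autoImplicit false
set_option linter.style.haveILetI false
set_option backward.isDefEq.respectTransparency false

universe u

open CategoryTheory CategoryTheory.Limits AlgebraicGeometry MonoidalCategory CartesianMonoidalCategory

namespace Groth.Agent.H19Desc

variable (K : Precoverage Scheme.{u}) {S : Scheme.{u}} [(QuotSh.J K S).Subcanonical]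

instance preservesPullbacks_yo : PreservesLimitsOfShape WalkingCospan (yo K S) := by
  haveI : PreservesLimitsOfShape WalkingCospan (yo K S ⋙ sheafToPresheaf (QuotSh.J K S) (Type (u + 1))) :=
    (inferInstance : PreservesLimitsOfShape WalkingCospan (uliftYoneda.{u + 1} : Over S ⥤ _))
  exact preservesLimitsOfShape_of_reflects_of_preserves (yo K S) (sheafToPresheaf (QuotSh.J K S) (Type (u + 1)))

theorem epi_yo_of_cover {Z T : Over S} (q : Z ⟶ T) (h : Presieve.singleton q.left ∈ K T.left) :
    Epi ((yo K S).map q) := by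
  have hcov : Sieve.ofArrows (fun _ : PUnit.{u + 1} => Z) (fun _ => q) ∈ QuotSh.J K S T := by
    rw [GrothendieckTopology.mem_over_iff, Sieve.overEquiv_ofArrows]
    refine Precoverage.generate_mem_toGrothendieck ?_
    rw [Presieve.ofArrows_pUnit]
    exact h
  haveI : Sheaf.IsLocallySurjective ((yo K S).map q) := by
    constructor
    intro V y
    refine GrothendieckTopology.superset_covering _ ?_
      (GrothendieckTopology.pullback_stable _ (ULift.down y) hcov)
    rintro W g ⟨_, h, _, ⟨_⟩, e⟩
    exact ⟨ULift.up h, ULift.ext _ _ e⟩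
  exact (Sheaf.isLocallySurjective_iff_epi _).1 inferInstance

variable {R U Y : Over S} (s t : R ⟶ U) [IsEquivalenceRelation s t] (q : U ⟶ Y)

/-- `U/R = Y` via `q` iff `R` is the kernel pair of `q` and `q` is an epimorphism of sheaves. -/
theorem isQuotient_iff :
    QuotSh.IsQuotient K s t q ↔ IsKernelPair q s t ∧ Epi ((yo K S).map q) := by
  have hd : ∀ w : s ≫ q = t ≫ q,
      proj K s t ≫ QuotSh.quotDesc K q w ≫ (QuotSh.repIsoUliftYoneda K Y).hom = (yo K S).map q := by
    intro w
    have h1 : QuotSh.quotπ K s t ≫ QuotSh.quotDesc K q w = QuotSh.repMap K q := coequalizer.π_desc _ _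
    rw [proj, Category.assoc, reassoc_of% h1, repIso_natural, Iso.inv_hom_id_assoc]
  constructor
  · rintro ⟨w, hw⟩
    let d := QuotSh.quotDesc K q w ≫ (QuotSh.repIsoUliftYoneda K Y).hom
    haveI : IsIso d := by haveI := hw; infer_instance
    refine ⟨?_, ?_⟩
    · have h := (isKernelPair K s t).of_iso (Iso.refl _) (Iso.refl _) (Iso.refl _) (asIso d)
        (fst' := (yo K S).map s) (snd' := (yo K S).map t) (f' := (yo K S).map q) (g' := (yo K S).map q)
        (by simp) (by simp) (by simpa [d] using hd w) (by simpa [d] using hd w)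
      exact IsPullback.of_map (yo K S) w h
    · rw [← hd w]; exact epi_comp _ _
  · rintro ⟨hkp, hepi⟩
    refine ⟨hkp.w, ?_⟩
    let d := QuotSh.quotDesc K q hkp.w ≫ (QuotSh.repIsoUliftYoneda K Y).hom
    haveI : Epi d := by
      have : Epi (proj K s t ≫ d) := by rw [hd hkp.w]; exact hepi
      exact epi_of_epi (proj K s t) d
    haveI : Mono d := by
      refine ⟨fun {Z} x y e => Sheaf.hom_ext ?_⟩
      ext T z
      have key : ∀ {T : Over S} (a b : (yo K S).obj T ⟶ QuotSh.quot K s t), a ≫ d = b ≫ d → a = b := by
        intro T a b e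
        obtain ⟨La, hLa, ha⟩ := exists_sieve_lift K s t a
        obtain ⟨Lb, hLb, hb⟩ := exists_sieve_lift K s t b
        refine hom_ext_of_sieve K (GrothendieckTopology.intersection_covering _ hLa hLb) fun T' g hg => ?_
        obtain ⟨u, hu⟩ := ha g hg.1
        obtain ⟨v, hv⟩ := hb g hg.2
        have e' : pt K s t u ≫ d = pt K s t v ≫ d := by rw [hu, hv, Category.assoc, Category.assoc, e]
        simp only [pt, Category.assoc] at e'
        rw [hd hkp.w, ← Functor.map_comp, ← Functor.map_comp] at e'
        obtain ⟨r, hr₁, hr₂⟩ := hkp.exists_lift u v ((yo K S).map_injective e')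
        rw [← hu, ← hv, pt_eq_pt_iff]
        exact ⟨r, hr₁, hr₂⟩
      let z' : (yo K S).obj T.unop ⟶ Z := (QuotSh.J K S).uliftYonedaEquiv.symm z
      have h' : z' ≫ x = z' ≫ y := key _ _ (by rw [Category.assoc, Category.assoc, e])
      have := congrArg (QuotSh.J K S).uliftYonedaEquiv h'
      rw [GrothendieckTopology.uliftYonedaEquiv_comp, GrothendieckTopology.uliftYonedaEquiv_comp] at this
      simpa [z'] using this
    haveI : IsIso d := isIso_of_mono_of_epi d
    exact IsIso.of_isIso_comp_right (QuotSh.quotDesc K q hkp.w) (QuotSh.repIsoUliftYoneda K Y).hom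

/-- A property of `s` local for the fpqc topology passes to `q`, when `q` is locally surjective
for a topology coarser than fppf. -/
theorem prop_of_kernelPair (hK : K ≤ Scheme.fppfPrecoverage) (hkp : IsKernelPair q s t)
    (hepi : Epi ((yo K S).map q)) (P : MorphismProperty Scheme.{u}) [IsZariskiLocalAtTarget P]
    [P.IsStableUnderBaseChange]
    [P.DescendsAlong (@Surjective ⊓ @Flat ⊓ @QuasiCompact : MorphismProperty Scheme.{u})]
    (hs : P s.left) : P q.left := by
  have hl : Presheaf.IsLocallySurjective (QuotSh.J K S) ((yo K S).map q).hom :=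
    (Sheaf.isLocallySurjective_iff_epi ((yo K S).map q)).2 hepi
  have hle : QuotSh.J K S ≤ QuotSh.J Scheme.fppfPrecoverage S := fun T L hL => by
    rw [GrothendieckTopology.mem_over_iff] at hL ⊢
    exact Precoverage.toGrothendieck_mono hK _ hL
  obtain ⟨κ, D, d, h₁, h₂, h₃, h₄⟩ :=
    Groth.Agent.H13AlgSp.exists_cover_of_mem_J (hle _ (hl.imageSieve_mem (U := Y) ⟨𝟙 Y⟩))
  refine Groth.Agent.H13Desc.of_fpqc_target P (X := fun i => (D i).left) (f := fun i => (d i).left)
    (Scheme.fppfPrecoverage_le_fpqcPrecoverage _ ?_) q.left fun i => ?_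
  · rw [Scheme.fppfPrecoverage, Scheme.ofArrows_mem_precoverage_iff]
    exact ⟨fun a => h₃ a, fun k => ⟨h₁ k, h₂ k⟩⟩
  · obtain ⟨⟨l⟩, hl'⟩ := h₄ i
    have hl'' : l ≫ q = d i := (congrArg ULift.down hl').trans (Category.comp_id (d i))
    have sq : IsPullback s.left t.left q.left q.left := hkp.map (Over.forget S)
    have hP : P t.left := prop_t s t hs
    have sq2 := IsPullback.of_hasPullback t.left l.left
    have big : IsPullback (pullback.fst t.left l.left ≫ s.left) (pullback.snd t.left l.left)
        q.left (d i).left := by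
      have := sq2.paste_horiz sq
      rwa [← Over.comp_left, hl''] at this
    rw [← big.isoPullback_inv_snd, P.cancel_left_of_respectsIso]
    exact MorphismProperty.of_isPullback sq2 hP

end Groth.Agent.H19Desc
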