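import Mathlib

/-! fpqc descent of ideals along a jointly faithfully flat finite family. -/

set_option autoImplicit false
set_option linter.style.haveILetI false
universe u v

open TensorProduct

namespace Groth.Agent.H19Desc

variable {A : Type u} [CommRing A] {ι : Type v} {B : ι → Type u} [∀ l, CommRing (B l)] [∀ l, Algebra A (B l)]
  (J : ∀ l, Ideal (B l)) {C : Type u} [CommRing C] [Algebra A C] (K : Ideal C)

/-- An ideal agreeing with the `J l` on the overlaps lies in the extension of their joint contraction. -/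
theorem le_map_iInf_comap [Finite ι] [Module.Flat A C]
    (h : ∀ l, K.map (Algebra.TensorProduct.includeLeftRingHom : C →+* C ⊗[A] B l) ≤
      (J l).map (Algebra.TensorProduct.includeRight : B l →ₐ[A] C ⊗[A] B l).toRingHom) :
    K ≤ (⨅ l, (J l).comap (algebraMap A (B l))).map (algebraMap A C) := by
  classical
  haveI := Fintype.ofFinite ι
  intro c hc
  set I := ⨅ l, (J l).comap (algebraMap A (B l)) with hI
  have hle : ∀ l, I ≤ (J l).comap (algebraMap A (B l)) := fun l => iInf_le _ l
  let ψ : (A ⧸ I) →ₗ[A] Π l, B l ⧸ J l := Submodule.liftQ I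
    (LinearMap.pi fun l => Algebra.linearMap A (B l ⧸ J l)) (fun a ha => by
      ext l
      simpa [Ideal.Quotient.eq_zero_iff_mem, ← Ideal.Quotient.mk_algebraMap] using hle l ha)
  have hψ : Function.Injective ψ := by
    rw [← LinearMap.ker_eq_bot, Submodule.ker_liftQ_eq_bot _ _ _ ?_]
    intro a ha
    rw [hI, Submodule.mem_iInf]
    intro l
    have := congrFun (LinearMap.mem_ker.1 ha) l
    rw [Ideal.mem_comap, ← Ideal.Quotient.eq_zero_iff_mem]
    exact this
  have hz : c ⊗ₜ[A] (1 : A ⧸ I) = 0 := by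
    apply Module.Flat.lTensor_preserves_injective_linearMap (M := C) ψ hψ
    rw [map_zero, LinearMap.lTensor_tmul]
    apply (TensorProduct.piRight A A C (fun l => B l ⧸ J l)).injective
    rw [map_zero, TensorProduct.piRight_apply, TensorProduct.piRightHom_tmul]
    funext l
    let m : C ⊗[A] B l →ₐ[A] C ⊗[A] (B l ⧸ J l) :=
      Algebra.TensorProduct.map (AlgHom.id A C) (Ideal.Quotient.mkₐ A (J l))
    have hk : (J l).map (Algebra.TensorProduct.includeRight : B l →ₐ[A] C ⊗[A] B l).toRingHom ≤
        RingHom.ker m := by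
      rw [Ideal.map_le_iff_le_comap]
      intro b hb
      simp [m, Ideal.Quotient.eq_zero_iff_mem.2 hb]
    have := hk (h l (Ideal.mem_map_of_mem _ hc))
    rw [RingHom.mem_ker] at this
    calc c ⊗ₜ[A] ψ (1 : A ⧸ I) l = c ⊗ₜ[A] (1 : B l ⧸ J l) := by
          congr 1
          show algebraMap A (B l ⧸ J l) 1 = 1
          exact map_one _
      _ = m (c ⊗ₜ[A] 1) := by simp [m]
      _ = 0 := this
  rw [← Ideal.Quotient.eq_zero_iff_mem]
  apply (Algebra.TensorProduct.quotIdealMapEquivTensorQuot C I).injective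
  rw [map_zero, Algebra.TensorProduct.quotIdealMapEquivTensorQuot_mk]
  exact hz

/-- Conversely, the joint contraction of the `J l` extends into any ideal agreeing with them. -/
theorem map_iInf_comap_le [∀ l, Module.Flat A (B l)]
    (hs : ∀ p : PrimeSpectrum A, ∃ l, p ∈ Set.range (PrimeSpectrum.comap (algebraMap A (B l))))
    (h : ∀ l, (J l).map (Algebra.TensorProduct.includeRight : B l →ₐ[A] C ⊗[A] B l).toRingHom ≤
      K.map (Algebra.TensorProduct.includeLeftRingHom : C →+* C ⊗[A] B l)) :
    (⨅ l, (J l).comap (algebraMap A (B l))).map (algebraMap A C) ≤ K := by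
  rw [Ideal.map_le_iff_le_comap]
  intro a ha
  rw [Ideal.mem_comap]
  let f : A →ₗ[A] C ⧸ K := LinearMap.toSpanSingleton A (C ⧸ K) (Ideal.Quotient.mk K (algebraMap A C a))
  by_contra hne
  have hker : LinearMap.ker f ≠ ⊤ := by
    intro e
    have : f 1 = 0 := LinearMap.mem_ker.1 (e ▸ Submodule.mem_top)
    exact hne (Ideal.Quotient.eq_zero_iff_mem.1 (by simpa [f] using this))
  obtain ⟨m, hm, hle⟩ := Ideal.exists_le_maximal (LinearMap.ker f : Ideal A) hker
  obtain ⟨l, q, hq⟩ := hs ⟨m, hm.isPrime⟩
  let fb : (A ⧸ (LinearMap.ker f : Ideal A)) →ₗ[A] C ⧸ K := Submodule.liftQ _ f le_rfl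
  have hfb : Function.Injective fb := by
    rw [← LinearMap.ker_eq_bot]
    exact Submodule.ker_liftQ_eq_bot _ _ _ le_rfl
  let m' : C ⊗[A] B l →ₐ[A] (C ⧸ K) ⊗[A] B l :=
    Algebra.TensorProduct.map (Ideal.Quotient.mkₐ A K) (AlgHom.id A (B l))
  have hk : K.map (Algebra.TensorProduct.includeLeftRingHom : C →+* C ⊗[A] B l) ≤ RingHom.ker m' := by
    rw [Ideal.map_le_iff_le_comap]
    intro b hb
    simp [m', Ideal.Quotient.eq_zero_iff_mem.2 hb]
  have h1 := hk (h l (Ideal.mem_map_of_mem _ (Submodule.mem_iInf _ |>.1 ha l)))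
  have h2 : (1 : B l) ⊗ₜ[A] (1 : A ⧸ (LinearMap.ker f : Ideal A)) = 0 := by
    apply Module.Flat.lTensor_preserves_injective_linearMap (M := B l) fb hfb
    apply (TensorProduct.comm A (B l) (C ⧸ K)).injective
    rw [map_zero, map_zero, LinearMap.lTensor_tmul, TensorProduct.comm_tmul]
    rw [RingHom.mem_ker] at h1
    have e : fb 1 = Ideal.Quotient.mk K (algebraMap A C a) := by
      show f 1 = _
      simp [f]
    rw [e, ← h1]
    show _ = m' ((1 : C) ⊗ₜ[A] algebraMap A (B l) a)
    rw [Algebra.algebraMap_eq_smul_one a (A := B l), TensorProduct.tmul_smul, map_smul]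
    rw [Ideal.Quotient.mk_algebraMap, Algebra.algebraMap_eq_smul_one]
    simp [m', TensorProduct.smul_tmul']
  have h3 : Ideal.Quotient.mk (Ideal.map (algebraMap A (B l)) (LinearMap.ker f)) 1 = 0 := by
    apply (Algebra.TensorProduct.quotIdealMapEquivTensorQuot (B l) (LinearMap.ker f : Ideal A)).injective
    rw [map_zero, Algebra.TensorProduct.quotIdealMapEquivTensorQuot_mk]
    exact h2
  rw [Ideal.Quotient.eq_zero_iff_mem] at h3
  refine q.isPrime.ne_top ((Ideal.eq_top_iff_one _).2 (Ideal.map_le_iff_le_comap.2 ?_ h3))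
  intro x hx
  exact (PrimeSpectrum.ext_iff.1 hq).ge (hle hx)

/-- An ideal is recovered from its extensions to a jointly faithfully flat family. -/
theorem iInf_comap_map [∀ l, Module.Flat A (B l)]
    (hs : ∀ p : PrimeSpectrum A, ∃ l, p ∈ Set.range (PrimeSpectrum.comap (algebraMap A (B l))))
    (I : Ideal A) : ⨅ l, (I.map (algebraMap A (B l))).comap (algebraMap A (B l)) = I := by
  refine le_antisymm ?_ (le_iInf fun l => Ideal.le_comap_map)
  have := map_iInf_comap_le (fun l => I.map (algebraMap A (B l))) I (C := A) hs fun l => by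
    rw [Ideal.map_map]
    refine (congrArg (Ideal.map · I) (RingHom.ext fun a => ?_)).le
    exact ((Algebra.TensorProduct.includeRight : B l →ₐ[A] A ⊗[A] B l).commutes a).trans (by simp [Algebra.TensorProduct.algebraMap_apply])
  simpa using this

end Groth.Agent.H19Desc
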