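import Groth.Agent.S6044
import Groth.Agent.S6045
import Groth.Agent.H13Desc.Fpqc
import Groth.Prelude.Def_QuotSh
import Mathlib

/-!
A functor of points which is, fpqc locally, represented by closed (open) immersions is so globally.
-/

set_option autoImplicit false
set_option linter.style.haveILetI false
set_option backward.isDefEq.respectTransparency false

universe u

open CategoryTheory CategoryTheory.Limits AlgebraicGeometry Opposite Desc

namespace Groth.Agent.H19Desc

variable {S : Scheme.{u}}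

/-- fpqc coverings of a sieve of the fpqc topology. -/
theorem exists_family_of_mem_fpqc {A : Over S} {L : Sieve A}
    (hL : L ∈ QuotSh.J Scheme.fpqcPrecoverage S A) :
    ∃ (κ : Type u) (C : κ → Over S) (c : ∀ i, C i ⟶ A),
      Presieve.ofArrows (fun i => (C i).left) (fun i => (c i).left) ∈ Scheme.fpqcPrecoverage A.left ∧
      ∀ i, L (c i) := by
  rw [GrothendieckTopology.mem_over_iff] at hL
  obtain ⟨P, hP, hPL⟩ := Precoverage.mem_toGrothendieck_iff_of_isStableUnderComposition.1 hL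
  obtain ⟨E, rfl⟩ := Precoverage.mem_iff_exists_zeroHypercover.1 hP
  haveI : Precoverage.Small.{u} Scheme.fpqcPrecoverage.{u} :=
    (inferInstance : Precoverage.Small.{u} (Scheme.propQCPrecoverage @Flat))
  let E' := Precoverage.ZeroHypercover.restrictIndexOfSmall.{u} E
  refine ⟨E'.I₀, fun i => Over.mk (E'.f i ≫ A.hom), fun i => Over.homMk (E'.f i) rfl, E'.mem₀, fun i => ?_⟩
  exact (Sieve.overEquiv_iff _ _).1 (hPL _ _ ⟨_⟩)

/-- A family in the fpqc precoverage generates a covering sieve over `S`. -/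
theorem ofArrows_mem_fpqc {A : Over S} {κ : Type u} {C : κ → Over S} (c : ∀ i, C i ⟶ A)
    (hc : Presieve.ofArrows (fun i => (C i).left) (fun i => (c i).left) ∈ Scheme.fpqcPrecoverage A.left) :
    Sieve.ofArrows C c ∈ QuotSh.J Scheme.fpqcPrecoverage S A := by
  rw [GrothendieckTopology.mem_over_iff, Sieve.overEquiv_ofArrows]
  exact Precoverage.generate_mem_toGrothendieck hc

variable {P : MorphismProperty Scheme.{u}}

/-- If `p` is fpqc locally on `X` represented by `P`-monomorphisms, it is so on `X`. -/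
theorem exists_rep_immersion [IsZariskiLocalAtTarget P]
    [P.DescendsAlong (@Surjective ⊓ @Flat ⊓ @QuasiCompact : MorphismProperty Scheme.{u})]
    (hmono : ∀ {A B : Scheme.{u}} (f : A ⟶ B), P f → Mono f)
    (heff : ∀ {B : Scheme.{u}} {κ : Type u} {Y : κ → Scheme.{u}} (f : ∀ i, Y i ⟶ B),
      Presieve.ofArrows Y f ∈ Scheme.fpqcPrecoverage B → ∀ D : SchDDFam f, (∀ i, P (D.obj i).hom) → D.IsEffective)
    {X : Over S} {κ : Type u} {C : κ → Over S} (d : ∀ i, C i ⟶ X)
    (hd : Presieve.ofArrows (fun i => (C i).left) (fun i => (d i).left) ∈ Scheme.fpqcPrecoverage X.left)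
    (p : ∀ {T : Over S}, (T ⟶ X) → Prop)
    (hp : ∀ {T T' : Over S} (g : T' ⟶ T) (x : T ⟶ X), p x → p (g ≫ x))
    (hloc : ∀ {T : Over S} (x : T ⟶ X),
      (∀ {T' : Over S} (g : T' ⟶ T), Sieve.ofArrows C d (g ≫ x) → p (g ≫ x)) → p x)
    (hrep : ∀ i, ∃ (Z : Over S) (j : Z ⟶ C i), P j.left ∧
      ∀ {T : Over S} (x : T ⟶ C i), (∃ z : T ⟶ Z, z ≫ j = x) ↔ p (x ≫ d i)) :
    ∃ (Z : Over S) (j : Z ⟶ X), P j.left ∧ ∀ {T : Over S} (x : T ⟶ X), (∃ z : T ⟶ Z, z ≫ j = x) ↔ p x := by
  choose Z j hj hZ using hrep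
  have hsub : ∀ (i : κ) {T : Scheme.{u}} (x : T ⟶ (C i).left), Subsingleton (Lifts (Over.mk (j i).left) x) :=
    fun i T x => ⟨fun v w => by
      haveI := hmono _ (hj i)
      exact Subtype.ext ((cancel_mono (j i).left).1 (v.2.trans w.2.symm))⟩
  -- the lifting criterion on schemes
  have hlift : ∀ (i k : κ) {T : Scheme.{u}} (x₀ : T ⟶ (C i).left) (x₁ : T ⟶ (C k).left),
      x₀ ≫ (d i).left = x₁ ≫ (d k).left → Lifts (Over.mk (j i).left) x₀ →
        Nonempty (Lifts (Over.mk (j k).left) x₁) := by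
    intro i k T x₀ x₁ h v
    have hw : x₁ ≫ (C k).hom = x₀ ≫ (C i).hom := by
      rw [← Over.w (d i), ← Over.w (d k), reassoc_of% h]
    let T₀ : Over S := Over.mk (x₀ ≫ (C i).hom)
    let y₀ : T₀ ⟶ C i := Over.homMk x₀ rfl
    let y₁ : T₀ ⟶ C k := Over.homMk x₁ hw
    have hv : v.1 ≫ (Z i).hom = x₀ ≫ (C i).hom := by
      rw [← Over.w (j i), ← Category.assoc]
      exact congrArg (· ≫ (C i).hom) v.2
    have hpx : p (y₀ ≫ d i) := (hZ i y₀).1 ⟨Over.homMk v.1 hv, by ext; exact v.2⟩
    rw [show y₀ ≫ d i = y₁ ≫ d k by ext; exact h] at hpx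
    obtain ⟨z, hz⟩ := (hZ k y₁).2 hpx
    exact ⟨⟨z.left, congrArg CommaMorphism.left hz⟩⟩
  let D : SchDDFam (fun i => (d i).left) :=
    { obj := fun i => Over.mk (j i).left
      φ := fun T i k x₀ x₁ h =>
        { toFun := fun v => (hlift i k x₀ x₁ h v).some
          invFun := fun v => (hlift k i x₁ x₀ h.symm v).some
          left_inv := fun v => @Subsingleton.elim _ (hsub i x₀) _ _
          right_inv := fun v => @Subsingleton.elim _ (hsub k x₁) _ _ }
      φ_natural := fun T T' g i k x₀ x₁ h y₀ y₁ hy₀ hy₁ h' v v' hv' => by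
        haveI := hmono _ (hj k)
        refine (cancel_mono (j k).left).1 ?_
        refine ((hlift i k y₀ y₁ h' v').some.2).trans ?_
        rw [Category.assoc]
        exact hy₁.symm.trans (congrArg (g ≫ ·) (hlift i k x₀ x₁ h v).some.2).symm
      φ_self := fun T i x v => @Subsingleton.elim _ (hsub i x) _ _
      φ_comp := fun T i k l x₀ x₁ x₂ h₀₁ h₁₂ v => @Subsingleton.elim _ (hsub l x₂) _ _ }
  obtain ⟨W, ⟨e⟩⟩ := heff _ hd D (fun i => hj i)
  -- componentwise comparison maps
  let a : ∀ i, pullback (d i).left W.hom ⟶ (Z i).left := fun i => (e.hom.hom i).left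
  let b : ∀ i, (Z i).left ⟶ pullback (d i).left W.hom := fun i => (e.inv.hom i).left
  have ha : ∀ i, a i ≫ (j i).left = pullback.fst _ _ := fun i => Over.w (e.hom.hom i)
  have hb : ∀ i, b i ≫ pullback.fst _ _ = (j i).left := fun i => Over.w (e.inv.hom i)
  have hab : ∀ i, a i ≫ b i = 𝟙 _ := fun i => congrArg (fun m => (m.hom i).left) e.hom_inv_id
  have hba : ∀ i, b i ≫ a i = 𝟙 _ := fun i => congrArg (fun m => (m.hom i).left) e.inv_hom_id
  have hPW : P W.hom := by
    refine H13Desc.of_fpqc_target P hd W.hom fun i => ?_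
    haveI : IsIso (a i) := ⟨b i, hab i, hba i⟩
    have h1 := (P.cancel_left_of_respectsIso (a i) (j i).left).2 (hj i)
    rw [ha] at h1
    rw [← pullbackSymmetry_hom_comp_fst, P.cancel_left_of_respectsIso]
    exact h1
  refine ⟨Over.mk (W.hom ≫ X.hom), Over.homMk W.hom rfl, hPW, fun {T} x => ⟨?_, fun hx => ?_⟩⟩
  · rintro ⟨z, rfl⟩
    refine hloc _ fun {T'} g hg => ?_
    obtain ⟨_, h, _, ⟨i⟩, e₁⟩ := hg
    rw [← e₁]
    refine (hZ i h).1 ?_
    have hc : h.left ≫ (d i).left = (g.left ≫ z.left) ≫ W.hom := by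
      rw [Category.assoc]
      exact congrArg CommaMorphism.left e₁
    refine ⟨Over.homMk (pullback.lift h.left (g.left ≫ z.left) hc ≫ a i) ?_, ?_⟩
    · rw [← Over.w (j i), Category.assoc, reassoc_of% (ha i), pullback.lift_fst_assoc, Over.w]
    · ext
      exact (Category.assoc _ _ _).trans ((congrArg _ (ha i)).trans (pullback.lift_fst _ _ _))
  · haveI := hmono _ hPW
    -- lifts exist on the pulled back sieve and glue
    let L : Sieve T := Sieve.pullback x (Sieve.ofArrows C d)
    have hL : L ∈ QuotSh.J Scheme.fpqcPrecoverage S T :=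
      GrothendieckTopology.pullback_stable _ x (ofArrows_mem_fpqc d hd)
    have hex : ∀ ⦃T' : Over S⦄ (g : T' ⟶ T), L g → ∃ w : T' ⟶ Over.mk (W.hom ≫ X.hom),
        w ≫ Over.homMk W.hom rfl = g ≫ x := by
      intro T' g hg
      obtain ⟨_, h, _, ⟨i⟩, e₁⟩ := hg
      obtain ⟨z, hz⟩ := (hZ i h).2 (e₁ ▸ hp g x hx)
      have hz' : z.left ≫ b i ≫ pullback.fst _ _ = h.left := by rw [hb]; exact congrArg CommaMorphism.left hz
      have hw : (z.left ≫ b i ≫ pullback.snd _ _) ≫ W.hom = g.left ≫ x.left := by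
        rw [Category.assoc, Category.assoc, ← pullback.condition, reassoc_of% hz']
        exact congrArg CommaMorphism.left e₁
      refine ⟨Over.homMk (z.left ≫ b i ≫ pullback.snd _ _) ?_, ?_⟩
      · show _ ≫ W.hom ≫ X.hom = _
        rw [← Category.assoc, hw, Category.assoc, Over.w, Over.w]
      · ext
        exact hw
    choose w hw using hex
    have hs := GrothendieckTopology.Subcanonical.isSheaf_of_isRepresentable
      (J := QuotSh.J Scheme.fpqcPrecoverage S) (yoneda.obj (Over.mk (W.hom ≫ X.hom)))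
    have hcomp : Presieve.FamilyOfElements.Compatible (P := yoneda.obj (Over.mk (W.hom ≫ X.hom)))
        (fun T' g (hg : L g) => w g hg) := by
      intro Y₁ Y₂ Z' g₁ g₂ f₁ f₂ h₁ h₂ hgg
      apply Over.OverMorphism.ext
      refine (cancel_mono W.hom).1 ?_
      have e₁ := congrArg CommaMorphism.left (hw f₁ h₁)
      have e₂ := congrArg CommaMorphism.left (hw f₂ h₂)
      have e₃ := congrArg CommaMorphism.left hgg
      simp only [yoneda_obj_map, Quiver.Hom.unop_op, TypeCat.Fun.coe_mk, ConcreteCategory.hom_ofHom,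
        Over.comp_left, Over.homMk_left, Category.assoc] at e₁ e₂ e₃ ⊢
      rw [e₁, e₂, reassoc_of% e₃]
    obtain ⟨z, hz, -⟩ := hs L hL _ hcomp
    refine ⟨z, ((GrothendieckTopology.Subcanonical.isSheaf_of_isRepresentable
      (J := QuotSh.J Scheme.fpqcPrecoverage S) (yoneda.obj X)) L hL).isSeparatedFor.ext fun T' g hg => ?_⟩
    show g ≫ z ≫ _ = g ≫ x
    rw [← Category.assoc, ← hw g hg]
    exact congrArg (· ≫ Over.homMk W.hom rfl) (hz g hg)

end Groth.Agent.H19Desc
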