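import Groth.Agent.H19Desc.QuotPts
import Groth.Agent.H19Desc.RepImmersion
import Groth.Agent.H15Site.SheafQuot
import Mathlib

/-!
The graph in `U ×_S T` of a `T`-point of the quotient `U/R` by a closed (open) equivalence relation.
-/

set_option autoImplicit false
set_option linter.style.haveILetI false
set_option backward.isDefEq.respectTransparency false

universe u

open CategoryTheory CategoryTheory.Limits AlgebraicGeometry Opposite Desc
open MonoidalCategory CartesianMonoidalCategory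

namespace Groth.Agent.H19Desc

variable {S : Scheme.{u}}

/-- A family covering `T` pulls back to a family covering `U × T`. -/
theorem whiskerLeft_family_mem {U T : Over S} {κ : Type u} {C : κ → Over S} (c : ∀ i, C i ⟶ T)
    (hc : Presieve.ofArrows (fun i => (C i).left) (fun i => (c i).left) ∈ Scheme.fpqcPrecoverage T.left) :
    Presieve.ofArrows (fun i => (U ⊗ C i).left) (fun i => (U ◁ c i).left) ∈
      Scheme.fpqcPrecoverage (U ⊗ T).left := by
  haveI : Scheme.fpqcPrecoverage.{u}.IsStableUnderBaseChange :=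
    (inferInstance : (Scheme.propQCPrecoverage @Flat).IsStableUnderBaseChange)
  exact Precoverage.mem_coverings_of_isPullback (J := Scheme.fpqcPrecoverage) _ hc (snd U T).left _
    (fun i => (snd U (C i)).left) fun i =>
      (Groth.Agent.H15Site.SheafQuot.isPullback_whiskerLeft U (c i)).map (Over.forget S)

/-- `lift x y` against a whiskered family. -/
theorem mem_whiskerLeft_ofArrows {U T T' : Over S} {κ : Type u} {C : κ → Over S} (c : ∀ i, C i ⟶ T)
    (y : T' ⟶ U ⊗ T) (h : Sieve.ofArrows C c (y ≫ snd U T)) :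
    Sieve.ofArrows (fun i => U ⊗ C i) (fun i => U ◁ c i) y := by
  obtain ⟨_, h', _, ⟨i⟩, e⟩ := h
  refine ⟨_, lift (y ≫ fst U T) h', _, ⟨i⟩, ?_⟩
  apply CartesianMonoidalCategory.hom_ext
  · simp
  · simpa using e

variable (K : Precoverage Scheme.{u}) [(QuotSh.J K S).Subcanonical] {R U : Over S} (s t : R ⟶ U)
  [IsEquivalenceRelation s t]

/-- Over an object where the point of `U/R` lifts to `U`, its graph is a base change of the relation. -/
theorem exists_graph_of_lift {P : MorphismProperty Scheme.{u}} [P.IsStableUnderBaseChange]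
    (hR : P (lift t s).left) {T : Over S} (σ : (yo K S).obj T ⟶ QuotSh.quot K s t) (a : T ⟶ U)
    (ha : pt K s t a = σ) :
    ∃ (Z : Over S) (j : Z ⟶ U ⊗ T) (l : Z ⟶ R), P j.left ∧
      IsPullback j l (lift (snd U T ≫ a) (fst U T)) (lift t s) ∧
      ∀ {T' : Over S} (x : T' ⟶ U ⊗ T), (∃ z : T' ⟶ Z, z ≫ j = x) ↔
        pt K s t (x ≫ fst U T) = (yo K S).map (x ≫ snd U T) ≫ σ := by
  let m : U ⊗ T ⟶ U ⊗ U := lift (snd U T ≫ a) (fst U T)
  have sq := IsPullback.of_hasPullback m (lift t s)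
  refine ⟨_, pullback.fst m (lift t s), pullback.snd m (lift t s), ?_, sq, fun {T'} x => ?_⟩
  · exact MorphismProperty.of_isPullback (sq.map (Over.forget S)).flip hR
  rw [← ha, map_pt, pt_eq_pt_iff]
  constructor
  · rintro ⟨z, rfl⟩
    refine ⟨z ≫ pullback.snd m (lift t s), ?_, ?_⟩
    · have := congrArg (fun f => z ≫ f ≫ snd U U) (pullback.condition (f := m) (g := lift t s))
      simpa [m] using this.symm
    · have := congrArg (fun f => z ≫ f ≫ fst U U) (pullback.condition (f := m) (g := lift t s))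
      simpa [m] using this.symm
  · rintro ⟨r, h₁, h₂⟩
    refine ⟨pullback.lift x r ?_, pullback.lift_fst _ _ _⟩
    simp only [m, comp_lift]
    rw [h₁, h₂, Category.assoc]

variable {P : MorphismProperty Scheme.{u}} [IsZariskiLocalAtTarget P] [P.IsStableUnderBaseChange]
    [P.DescendsAlong (@Surjective ⊓ @Flat ⊓ @QuasiCompact : MorphismProperty Scheme.{u})]
    (hmono : ∀ {A B : Scheme.{u}} (f : A ⟶ B), P f → Mono f)
    (heff : ∀ {B : Scheme.{u}} {κ : Type u} {Y : κ → Scheme.{u}} (f : ∀ i, Y i ⟶ B),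
      Presieve.ofArrows Y f ∈ Scheme.fpqcPrecoverage B → ∀ D : SchDDFam f, (∀ i, P (D.obj i).hom) → D.IsEffective)
    (hR : P (lift t s).left)

include hmono heff hR in
/-- The graph of a point of `U/R`. -/
theorem exists_graph {T : Over S} (σ : (yo K S).obj T ⟶ QuotSh.quot K s t) {κ : Type u} {C : κ → Over S}
    (c : ∀ i, C i ⟶ T)
    (hc : Presieve.ofArrows (fun i => (C i).left) (fun i => (c i).left) ∈ Scheme.fpqcPrecoverage T.left)
    (hcK : Sieve.ofArrows C c ∈ QuotSh.J K S T)
    (hlift : ∀ i, ∃ a : C i ⟶ U, pt K s t a = (yo K S).map (c i) ≫ σ) :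
    ∃ (Z : Over S) (j : Z ⟶ U ⊗ T), P j.left ∧ ∀ {T' : Over S} (x : T' ⟶ U ⊗ T),
      (∃ z : T' ⟶ Z, z ≫ j = x) ↔ pt K s t (x ≫ fst U T) = (yo K S).map (x ≫ snd U T) ≫ σ := by
  refine exists_rep_immersion hmono heff (fun i => U ◁ c i) (whiskerLeft_family_mem c hc)
    (fun {T'} x => pt K s t (x ≫ fst U T) = (yo K S).map (x ≫ snd U T) ≫ σ) ?_ ?_ fun i => ?_
  · intro T' T'' g x h
    rw [Category.assoc, Category.assoc, ← map_pt, h]
    simp only [Category.assoc, Functor.map_comp]
  · intro T' x h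
    refine hom_ext_of_sieve K (GrothendieckTopology.pullback_stable _ (x ≫ snd U T) hcK) fun T'' g hg => ?_
    have := h g (mem_whiskerLeft_ofArrows c _ (by rw [Category.assoc]; exact hg))
    rw [Category.assoc, Category.assoc] at this
    rw [map_pt, this, Functor.map_comp, Category.assoc]
  · obtain ⟨a, ha⟩ := hlift i
    obtain ⟨Z, j, -, hj, -, hZ⟩ := exists_graph_of_lift K s t hR ((yo K S).map (c i) ≫ σ) a ha
    refine ⟨Z, j, hj, fun {T'} x => (hZ x).trans ?_⟩
    simp only [Category.assoc, whiskerLeft_fst, whiskerLeft_snd, Functor.map_comp]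

/-- The graph pulled back to an object where the point lifts is the pullback of `t`. -/
theorem isPullback_graph_of_lift {T : Over S} (σ : (yo K S).obj T ⟶ QuotSh.quot K s t) {Z : Over S}
    (j : Z ⟶ U ⊗ T) [Mono j]
    (hZ : ∀ {T' : Over S} (x : T' ⟶ U ⊗ T), (∃ z : T' ⟶ Z, z ≫ j = x) ↔
      pt K s t (x ≫ fst U T) = (yo K S).map (x ≫ snd U T) ≫ σ)
    {C : Over S} (c : C ⟶ T) (a : C ⟶ U) (ha : pt K s t a = (yo K S).map c ≫ σ)
    {Z' : Over S} (p : Z' ⟶ Z) (q : Z' ⟶ C) (r : Z' ⟶ R) (hp : p ≫ j = lift (r ≫ s) (q ≫ c))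
    (sqR : IsPullback r q t a) : IsPullback p q (j ≫ snd U T) c := by
  have w : p ≫ j ≫ snd U T = q ≫ c := by rw [reassoc_of% hp, lift_snd]
  obtain ⟨e⟩ := IsEquivalenceRelation.nonempty_equivalenceRelation (p₁ := s) (p₂ := t)
  have hex : ∀ x : PullbackCone (j ≫ snd U T) c,
      ∃ m : x.pt ⟶ Z', m ≫ p = x.fst ∧ m ≫ q = x.snd := by
    intro x
    have h1 := (hZ (x.fst ≫ j)).1 ⟨x.fst, rfl⟩
    rw [Category.assoc, Category.assoc, x.condition, Functor.map_comp, Category.assoc, ← ha, map_pt,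
      pt_eq_pt_iff] at h1
    obtain ⟨r₀, h₁, h₂⟩ := h1
    refine ⟨sqR.lift r₀ x.snd h₂, ?_, sqR.lift_snd _ _ _⟩
    rw [← cancel_mono j, Category.assoc, hp, comp_lift, sqR.lift_fst_assoc, sqR.lift_snd_assoc, h₁,
      ← x.condition]
    apply CartesianMonoidalCategory.hom_ext <;> simp
  refine ⟨⟨w⟩, ⟨PullbackCone.IsLimit.mk _ (fun x => (hex x).choose) (fun x => (hex x).choose_spec.1)
    (fun x => (hex x).choose_spec.2) fun x m h₁ h₂ => ?_⟩⟩
  refine sqR.hom_ext (e.right_cancellation _ _ ?_ ?_) (h₂.trans (hex x).choose_spec.2.symm)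
  · have := congrArg (fun f => f ≫ j ≫ fst U T) (h₁.trans (hex x).choose_spec.1.symm)
    simpa [reassoc_of% hp] using this
  · rw [Category.assoc, Category.assoc, sqR.w, ← Category.assoc, ← Category.assoc]
    exact congrArg (· ≫ a) (h₂.trans (hex x).choose_spec.2.symm)

end Groth.Agent.H19Desc
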