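import Groth.Agent.H19Desc.QuotGraph
import Groth.Agent.H18Torsor.Basic
import Groth.Agent.H18Descent.Basic
import Mathlib

/-!
`T`-points of `U/R` correspond to invariant closed (open) subschemes of `U × T` fppf (fpqc) over `T`.
-/

set_option autoImplicit false
set_option linter.style.haveILetI false
set_option backward.isDefEq.respectTransparency false

universe u

open CategoryTheory CategoryTheory.Limits AlgebraicGeometry Opposite Desc
open MonoidalCategory CartesianMonoidalCategory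

namespace Groth.Agent.H19Desc

variable {S : Scheme.{u}} {R U : Over S} (s t : R ⟶ U) [IsEquivalenceRelation s t]

/-- The involution of an equivalence relation exchanges the two projections. -/
theorem exists_symm : ∃ e : R ≅ R, e.hom ≫ s = t := by
  obtain ⟨e⟩ := IsEquivalenceRelation.nonempty_equivalenceRelation (p₁ := s) (p₂ := t)
  have h : e.s ≫ e.s = 𝟙 R := e.right_cancellation _ _
    (by rw [Category.assoc, e.symmetry₁, e.symmetry₂, Category.id_comp])
    (by rw [Category.assoc, e.symmetry₂, e.symmetry₁, Category.id_comp])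
  exact ⟨⟨e.s, e.s, h, h⟩, e.symmetry₁⟩

theorem prop_t {Q : MorphismProperty Scheme.{u}} [Q.RespectsIso] (hs : Q s.left) : Q t.left := by
  obtain ⟨e, he⟩ := exists_symm s t
  rw [← he, Over.comp_left]
  exact (Q.cancel_left_of_respectsIso e.hom.left s.left).2 hs

/-- An fpqc-local property of `t` passes to the projection of a graph. -/
theorem graph_snd_prop (K : Precoverage Scheme.{u}) [(QuotSh.J K S).Subcanonical]
    {Q : MorphismProperty Scheme.{u}} [IsZariskiLocalAtTarget Q] [Q.IsStableUnderBaseChange]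
    [Q.DescendsAlong (@Surjective ⊓ @Flat ⊓ @QuasiCompact : MorphismProperty Scheme.{u})]
    (ht : Q t.left) {T : Over S} (σ : (yo K S).obj T ⟶ QuotSh.quot K s t) {Z : Over S}
    (j : Z ⟶ U ⊗ T) [Mono j]
    (hZ : ∀ {T' : Over S} (x : T' ⟶ U ⊗ T), (∃ z : T' ⟶ Z, z ≫ j = x) ↔
      pt K s t (x ≫ fst U T) = (yo K S).map (x ≫ snd U T) ≫ σ)
    {κ : Type u} {C : κ → Over S} (c : ∀ i, C i ⟶ T)
    (hc : Presieve.ofArrows (fun i => (C i).left) (fun i => (c i).left) ∈ Scheme.fpqcPrecoverage T.left)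
    (hlift : ∀ i, ∃ a : C i ⟶ U, pt K s t a = (yo K S).map (c i) ≫ σ) : Q (j ≫ snd U T).left := by
  refine H13Desc.of_fpqc_target Q hc _ fun i => ?_
  obtain ⟨a, ha⟩ := hlift i
  let r := pullback.fst t a
  let q := pullback.snd t a
  obtain ⟨p, hp⟩ := (hZ (lift (r ≫ s) (q ≫ c i))).2 (by
    rw [lift_fst, lift_snd, Functor.map_comp, Category.assoc, ← ha, map_pt, pt_eq_pt_iff]
    exact ⟨r, rfl, pullback.condition⟩)
  have sqR : IsPullback r q t a := IsPullback.of_hasPullback t a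
  have sq := (isPullback_graph_of_lift K s t σ j hZ (c i) a ha p q r hp sqR).map (Over.forget S)
  have h1 : Q q.left := MorphismProperty.of_isPullback (sqR.map (Over.forget S)) ht
  have h2 := sq.isoPullback_hom_snd
  refine (Q.cancel_left_of_respectsIso sq.isoPullback.hom _).1 ?_
  erw [h2]
  exact h1

/-- Translate the gluing condition between `rep` and the Yoneda embedding. -/
theorem repMap_eq_iff (K : Precoverage Scheme.{u}) [(QuotSh.J K S).Subcanonical] {Z T : Over S}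
    (a : Z ⟶ U) (b : Z ⟶ T) (σ : QuotSh.rep K T ⟶ QuotSh.quot K s t) :
    QuotSh.repMap K a ≫ QuotSh.quotπ K s t = QuotSh.repMap K b ≫ σ ↔
      pt K s t a = (yo K S).map b ≫ (QuotSh.repIsoUliftYoneda K T).inv ≫ σ := by
  rw [pt_eq, repIso_inv_natural_assoc, cancel_epi]

variable {P : MorphismProperty Scheme.{u}} [IsZariskiLocalAtTarget P] [P.IsStableUnderBaseChange]
    [P.DescendsAlong (@Surjective ⊓ @Flat ⊓ @QuasiCompact : MorphismProperty Scheme.{u})]

/-- The correspondence between points of the fpqc quotient and graphs. -/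
theorem fpqc_graph (hmono : ∀ {A B : Scheme.{u}} (f : A ⟶ B), P f → Mono f)
    (heff : ∀ {B : Scheme.{u}} {κ : Type u} {Y : κ → Scheme.{u}} (f : ∀ i, Y i ⟶ B),
      Presieve.ofArrows Y f ∈ Scheme.fpqcPrecoverage B → ∀ D : SchDDFam f, (∀ i, P (D.obj i).hom) → D.IsEffective)
    [Flat s.left] [Surjective s.left] [QuasiCompact s.left]
    (hc : P (lift t s).left)
    (T : Over S) (σ : QuotSh.rep Scheme.fpqcPrecoverage T ⟶ QuotSh.quot Scheme.fpqcPrecoverage s t) :
    (∃ (Z : Over S) (i : Z ⟶ U ⊗ T), P i.left ∧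
      (∀ (T' : Over S) (r : T' ⟶ R ⊗ T),
        (∃ z : T' ⟶ Z, z ≫ i = r ≫ (s ▷ T)) ↔ (∃ z : T' ⟶ Z, z ≫ i = r ≫ (t ▷ T))) ∧
      Flat (i ≫ snd U T).left ∧ Surjective (i ≫ snd U T).left ∧
      QuasiCompact (i ≫ snd U T).left ∧
      (∀ (T' : Over S) (z₁ z₂ : T' ⟶ Z), z₁ ≫ i ≫ snd U T = z₂ ≫ i ≫ snd U T →
        ∃ r : T' ⟶ R, r ≫ s = z₁ ≫ i ≫ fst U T ∧ r ≫ t = z₂ ≫ i ≫ fst U T) ∧
      QuotSh.repMap Scheme.fpqcPrecoverage (i ≫ fst U T) ≫ QuotSh.quotπ Scheme.fpqcPrecoverage s t =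
        QuotSh.repMap Scheme.fpqcPrecoverage (i ≫ snd U T) ≫ σ) ∧
    (∀ (Z Z' : Over S) (i : Z ⟶ U ⊗ T) (i' : Z' ⟶ U ⊗ T),
      P i.left → P i'.left →
      (∀ (T' : Over S) (r : T' ⟶ R ⊗ T),
        (∃ z : T' ⟶ Z, z ≫ i = r ≫ (s ▷ T)) ↔ (∃ z : T' ⟶ Z, z ≫ i = r ≫ (t ▷ T))) →
      (∀ (T' : Over S) (r : T' ⟶ R ⊗ T),
        (∃ z : T' ⟶ Z', z ≫ i' = r ≫ (s ▷ T)) ↔ (∃ z : T' ⟶ Z', z ≫ i' = r ≫ (t ▷ T))) →
      Flat (i ≫ snd U T).left → Surjective (i ≫ snd U T).left →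
      QuasiCompact (i ≫ snd U T).left →
      Flat (i' ≫ snd U T).left → Surjective (i' ≫ snd U T).left →
      QuasiCompact (i' ≫ snd U T).left →
      (∀ (T' : Over S) (z₁ z₂ : T' ⟶ Z), z₁ ≫ i ≫ snd U T = z₂ ≫ i ≫ snd U T →
        ∃ r : T' ⟶ R, r ≫ s = z₁ ≫ i ≫ fst U T ∧ r ≫ t = z₂ ≫ i ≫ fst U T) →
      (∀ (T' : Over S) (z₁ z₂ : T' ⟶ Z'), z₁ ≫ i' ≫ snd U T = z₂ ≫ i' ≫ snd U T →
        ∃ r : T' ⟶ R, r ≫ s = z₁ ≫ i' ≫ fst U T ∧ r ≫ t = z₂ ≫ i' ≫ fst U T) →
      QuotSh.repMap Scheme.fpqcPrecoverage (i ≫ fst U T) ≫ QuotSh.quotπ Scheme.fpqcPrecoverage s t =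
        QuotSh.repMap Scheme.fpqcPrecoverage (i ≫ snd U T) ≫ σ →
      QuotSh.repMap Scheme.fpqcPrecoverage (i' ≫ fst U T) ≫ QuotSh.quotπ Scheme.fpqcPrecoverage s t =
        QuotSh.repMap Scheme.fpqcPrecoverage (i' ≫ snd U T) ≫ σ →
      ∃ e : Z ≅ Z', e.hom ≫ i' = i) := by
  let K : Precoverage Scheme.{u} := Scheme.fpqcPrecoverage
  let σ' : (yo K S).obj T ⟶ QuotSh.quot K s t := (QuotSh.repIsoUliftYoneda K T).inv ≫ σ
  have hmono' : ∀ {A B : Over S} (f : A ⟶ B), P f.left → Mono f := fun f hf => by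
    haveI := hmono _ hf
    exact Over.mono_of_mono_left f
  constructor
  · obtain ⟨L, hL, hLlift⟩ := exists_sieve_lift K s t σ'
    obtain ⟨κ, C, c, hcfam, hcL⟩ := exists_family_of_mem_fpqc hL
    have hlift := fun i => hLlift (c i) (hcL i)
    obtain ⟨Z, j, hj, hZ⟩ := exists_graph K s t hmono heff hc σ' c hcfam (ofArrows_mem_fpqc c hcfam) hlift
    haveI := hmono' j hj
    refine ⟨Z, j, hj, fun T' r => ?_, ?_, ?_, ?_, fun T' z₁ z₂ hz => ?_, ?_⟩
    · rw [hZ, hZ]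
      have hs : pt K s t (r ≫ fst R T ≫ s) = pt K s t (r ≫ fst R T ≫ t) :=
        (pt_eq_pt_iff K s t _ _).2 ⟨r ≫ fst R T, Category.assoc _ _ _, Category.assoc _ _ _⟩
      simp only [Category.assoc, whiskerRight_fst, whiskerRight_snd]
      rw [hs]
    · exact graph_snd_prop s t K (prop_t s t (Q := @Flat) ‹_›) σ' j hZ c hcfam hlift
    · exact graph_snd_prop s t K (prop_t s t (Q := @Surjective) ‹_›) σ' j hZ c hcfam hlift
    · exact graph_snd_prop s t K (prop_t s t (Q := @QuasiCompact) ‹_›) σ' j hZ c hcfam hlift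
    · have h₁ := (hZ (z₁ ≫ j)).1 ⟨z₁, rfl⟩
      have h₂ := (hZ (z₂ ≫ j)).1 ⟨z₂, rfl⟩
      simp only [Category.assoc] at h₁ h₂
      rw [hz, ← h₂] at h₁
      exact (pt_eq_pt_iff K s t _ _).1 h₁
    · exact (repMap_eq_iff s t K _ _ σ).2 ((hZ j).1 ⟨𝟙 Z, Category.id_comp j⟩)
  · intro Z Z' i i' hi hi' hinv hinv' hf hsu hq hf' hsu' hq' _ _ heq heq'
    -- both are the graph of `σ`
    have key : ∀ (W : Over S) (w : W ⟶ U ⊗ T), P w.left →
        (∀ (T' : Over S) (r : T' ⟶ R ⊗ T),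
          (∃ z : T' ⟶ W, z ≫ w = r ≫ (s ▷ T)) ↔ (∃ z : T' ⟶ W, z ≫ w = r ≫ (t ▷ T))) →
        Flat (w ≫ snd U T).left → Surjective (w ≫ snd U T).left → QuasiCompact (w ≫ snd U T).left →
        pt K s t (w ≫ fst U T) = (yo K S).map (w ≫ snd U T) ≫ σ' →
        ∀ (T' : Over S) (x : T' ⟶ U ⊗ T), pt K s t (x ≫ fst U T) = (yo K S).map (x ≫ snd U T) ≫ σ' →
          ∃ z : T' ⟶ W, z ≫ w = x := by
      intro W w hw hi _ _ _ hwσ T' x hx
      haveI := hmono _ hw
      let g := pullback.fst (x ≫ snd U T) (w ≫ snd U T)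
      let z₀ := pullback.snd (x ≫ snd U T) (w ≫ snd U T)
      have sq := ((IsPullback.of_hasPullback (x ≫ snd U T) (w ≫ snd U T)).map (Over.forget S)).flip
      haveI : Flat g.left := MorphismProperty.of_isPullback sq ‹Flat (w ≫ snd U T).left›
      haveI : Surjective g.left := MorphismProperty.of_isPullback sq ‹Surjective (w ≫ snd U T).left›
      haveI : QuasiCompact g.left := MorphismProperty.of_isPullback sq ‹QuasiCompact (w ≫ snd U T).left›
      have hw0 : g ≫ x ≫ snd U T = z₀ ≫ w ≫ snd U T := pullback.condition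
      have h : pt K s t (z₀ ≫ w ≫ fst U T) = pt K s t (g ≫ x ≫ fst U T) := by
        rw [← map_pt K s t z₀ (w ≫ fst U T), ← map_pt K s t g (x ≫ fst U T), hwσ, hx]
        simp only [← Category.assoc, ← Functor.map_comp]
        simp only [Category.assoc, hw0]
      obtain ⟨r, hr₁, hr₂⟩ := (pt_eq_pt_iff K s t _ _).1 h
      obtain ⟨z', hz'⟩ := (hi _ (lift r (g ≫ x ≫ snd U T))).1 ⟨z₀, by
        apply CartesianMonoidalCategory.hom_ext
        · simp [hr₁]
        · simp [hw0]⟩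
      have hz'' : z' ≫ w = g ≫ x := hz'.trans (by
        apply CartesianMonoidalCategory.hom_ext
        · simp [hr₂]
        · simp)
      have hl := congrArg CommaMorphism.left hz''
      simp only [Over.comp_left] at hl
      let z : T'.left ⟶ W.left := EffectiveEpi.desc g.left z'.left fun a b hab => by
        rw [← cancel_mono w.left, Category.assoc, Category.assoc, hl, reassoc_of% hab]
      have hz : z ≫ w.left = x.left := by
        rw [← cancel_epi g.left, EffectiveEpi.fac_assoc]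
        exact hl
      refine ⟨Over.homMk z ?_, Over.OverMorphism.ext hz⟩
      rw [← Over.w w, reassoc_of% hz, Over.w]
    have e₁ := (repMap_eq_iff s t K _ _ σ).1 heq
    have e₂ := (repMap_eq_iff s t K _ _ σ).1 heq'
    obtain ⟨a, ha⟩ := key Z' i' hi' hinv' hf' hsu' hq' e₂ Z i e₁
    obtain ⟨b, hb⟩ := key Z i hi hinv hf hsu hq e₁ Z' i' e₂
    haveI := hmono' i hi
    haveI := hmono' i' hi'
    exact ⟨⟨a, b, by rw [← cancel_mono i, Category.assoc, hb, ha, Category.id_comp],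
      by rw [← cancel_mono i', Category.assoc, ha, hb, Category.id_comp]⟩, ha⟩

end Groth.Agent.H19Desc
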