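import Groth.Prelude.Def_QuotSh
import Groth.Agent.S5217
import Mathlib

/-!
Points of the quotient sheaf `U/R` of an equivalence relation of schemes: kernel pair and local lifts,
for any subcanonical precoverage.
-/

set_option autoImplicit false
set_option linter.style.haveILetI false
set_option backward.isDefEq.respectTransparency false

universe u

open CategoryTheory CategoryTheory.Limits AlgebraicGeometry Opposite

namespace Groth.Agent.H19Desc

variable (K : Precoverage Scheme.{u}) {S : Scheme.{u}} [(QuotSh.J K S).Subcanonical]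

/-- The representable sheaves. -/
abbrev yo (K : Precoverage Scheme.{u}) (S : Scheme.{u}) [(QuotSh.J K S).Subcanonical] : Over S ⥤ QuotSh.Sh K S :=
  (QuotSh.J K S).uliftYoneda.{u + 1}

theorem repIso_natural {V W : Over S} (g : V ⟶ W) :
    QuotSh.repMap K g ≫ (QuotSh.repIsoUliftYoneda K W).hom =
      (QuotSh.repIsoUliftYoneda K V).hom ≫ (yo K S).map g := by
  apply (ObjectProperty.ι _).map_injective
  apply CategoryTheory.sheafify_hom_ext _ _ _ ((yo K S).obj W).property
  simp [QuotSh.repIsoUliftYoneda, sheafificationIso]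
  erw [Category.comp_id]

@[reassoc]
theorem repIso_inv_natural {V W : Over S} (g : V ⟶ W) :
    (yo K S).map g ≫ (QuotSh.repIsoUliftYoneda K W).inv =
      (QuotSh.repIsoUliftYoneda K V).inv ≫ QuotSh.repMap K g := by
  rw [Iso.comp_inv_eq, Category.assoc, repIso_natural, Iso.inv_hom_id_assoc]

variable {R U : Over S} (s t : R ⟶ U)

/-- The quotient map out of the representable sheaf. -/
noncomputable def proj : (yo K S).obj U ⟶ QuotSh.quot K s t :=
  (QuotSh.repIsoUliftYoneda K U).inv ≫ QuotSh.quotπ K s t

/-- The point of `U/R` defined by a point of `U`. -/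
noncomputable def pt {T : Over S} (a : T ⟶ U) : (yo K S).obj T ⟶ QuotSh.quot K s t :=
  (yo K S).map a ≫ proj K s t

@[simp]
theorem map_pt {T T' : Over S} (g : T' ⟶ T) (a : T ⟶ U) :
    (yo K S).map g ≫ pt K s t a = pt K s t (g ≫ a) := by
  rw [pt, pt, Functor.map_comp, Category.assoc]

theorem pt_eq {T : Over S} (a : T ⟶ U) : pt K s t a =
    (QuotSh.repIsoUliftYoneda K T).inv ≫ QuotSh.repMap K a ≫ QuotSh.quotπ K s t := by
  rw [pt, proj, repIso_inv_natural_assoc]

instance epi_proj : Epi (proj K s t) := by
  haveI : Epi (QuotSh.quotπ K s t) := (inferInstance : Epi (coequalizer.π _ _))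
  exact epi_comp _ _

theorem proj_condition : (yo K S).map s ≫ proj K s t = (yo K S).map t ≫ proj K s t := by
  simp only [proj, repIso_inv_natural_assoc]
  rw [QuotSh.quot_condition]

variable [IsEquivalenceRelation s t]

theorem isKernelPair : IsKernelPair (proj K s t) ((yo K S).map s) ((yo K S).map t) := by
  obtain ⟨e⟩ := IsEquivalenceRelation.nonempty_equivalenceRelation (p₁ := s) (p₂ := t)
  haveI : PreservesLimitsOfShape WalkingCospan (yo K S) := by
    haveI : PreservesLimitsOfShape WalkingCospan (yo K S ⋙ sheafToPresheaf (QuotSh.J K S) (Type (u + 1))) :=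
      (inferInstance : PreservesLimitsOfShape WalkingCospan (uliftYoneda.{u + 1} : Over S ⥤ _))
    exact preservesLimitsOfShape_of_reflects_of_preserves (yo K S) (sheafToPresheaf (QuotSh.J K S) (Type (u + 1)))
  haveI : JointlyMono₂ ((yo K S).map s) ((yo K S).map t) := ⟨fun Y f g h₁ h₂ => by
    apply Sheaf.hom_ext
    ext V y
    apply ULift.ext
    refine e.right_cancellation _ _ ?_ ?_
    · exact congrArg (fun φ => (φ.hom.app V y).down) h₁
    · exact congrArg (fun φ => (φ.hom.app V y).down) h₂⟩
  haveI : IsEquivalenceRelation ((yo K S).map s) ((yo K S).map t) := EquivalenceRelation.isEquivalenceRelation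
    { toReflexiveRelation := e.toReflexiveRelation.map (yo K S)
      s := (e.toSymmetricRelation.map (yo K S)).s
      symmetry₁ := (e.toSymmetricRelation.map (yo K S)).symmetry₁
      symmetry₂ := (e.toSymmetricRelation.map (yo K S)).symmetry₂
      c := (e.toTransitiveRelation.map (yo K S)).c
      isLimit := (e.toTransitiveRelation.map (yo K S)).isLimit
      t := (e.toTransitiveRelation.map (yo K S)).t
      transitivity₁ := (e.toTransitiveRelation.map (yo K S)).transitivity₁
      transitivity₂ := (e.toTransitiveRelation.map (yo K S)).transitivity₂ }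
  obtain ⟨q⟩ := (Groth.Agent.S5217.result (QuotSh.J K S) ((yo K S).map s) ((yo K S).map t)).1
  let d : q.B ⟶ QuotSh.quot K s t :=
    q.toEffectiveEquivalenceRelation.isCoequalizer.desc (Cofork.ofπ (proj K s t) (proj_condition K s t))
  have hd : q.π ≫ d = proj K s t := q.toEffectiveEquivalenceRelation.isCoequalizer.fac _ WalkingParallelPair.one
  have hw : QuotSh.repMap K s ≫ (QuotSh.repIsoUliftYoneda K U).hom ≫ q.π =
      QuotSh.repMap K t ≫ (QuotSh.repIsoUliftYoneda K U).hom ≫ q.π := by
    rw [← Category.assoc, repIso_natural, ← Category.assoc (QuotSh.repMap K t), repIso_natural,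
      Category.assoc, Category.assoc, q.isKernelPair.w]
  let d' : QuotSh.quot K s t ⟶ q.B := coequalizer.desc _ hw
  have hd' : proj K s t ≫ d' = q.π := by
    simp [proj, d', QuotSh.quotπ]
  haveI : Epi q.π := Cofork.IsColimit.epi q.toEffectiveEquivalenceRelation.isCoequalizer
  let i : q.B ≅ QuotSh.quot K s t :=
    ⟨d, d', by rw [← cancel_epi q.π, reassoc_of% hd, hd', Category.comp_id],
      by rw [← cancel_epi (proj K s t), reassoc_of% hd', hd, Category.comp_id]⟩
  exact q.isKernelPair.of_iso (Iso.refl _) (Iso.refl _) (Iso.refl _) i (by simp) (by simp)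
    (by simp [i, hd]) (by simp [i, hd])

/-- Two points of `U` agree in `U/R` iff they are related. -/
theorem pt_eq_pt_iff {T : Over S} (a b : T ⟶ U) :
    pt K s t a = pt K s t b ↔ ∃ r : T ⟶ R, r ≫ s = a ∧ r ≫ t = b := by
  constructor
  · intro h
    obtain ⟨l, h₁, h₂⟩ := (isKernelPair K s t).exists_lift _ _ h
    obtain ⟨r, rfl⟩ := (yo K S).map_surjective l
    rw [← Functor.map_comp] at h₁ h₂
    exact ⟨r, (yo K S).map_injective h₁, (yo K S).map_injective h₂⟩
  · rintro ⟨r, rfl, rfl⟩
    rw [pt, pt, Functor.map_comp, Functor.map_comp, Category.assoc, Category.assoc, proj_condition]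

omit [IsEquivalenceRelation s t] in
/-- Points of `U/R` lift to `U` on a covering sieve. -/
theorem exists_sieve_lift {T : Over S} (σ : (yo K S).obj T ⟶ QuotSh.quot K s t) :
    ∃ L ∈ QuotSh.J K S T, ∀ ⦃T' : Over S⦄ (g : T' ⟶ T), L g →
      ∃ a : T' ⟶ U, pt K s t a = (yo K S).map g ≫ σ := by
  have hl : Presheaf.IsLocallySurjective (QuotSh.J K S) (proj K s t).hom :=
    (Sheaf.isLocallySurjective_iff_epi (proj K s t)).2 inferInstance
  refine ⟨_, hl.imageSieve_mem ((QuotSh.J K S).uliftYonedaEquiv σ), fun T' g hg => ?_⟩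
  obtain ⟨x, hx⟩ := hg
  refine ⟨x.down, (QuotSh.J K S).uliftYonedaEquiv.injective ?_⟩
  rw [pt, GrothendieckTopology.uliftYonedaEquiv_comp]
  refine Eq.trans ?_ (hx.trans (GrothendieckTopology.uliftYonedaEquiv_naturality _ σ g))
  refine congrArg _ ?_
  exact ULift.ext _ _ (Category.id_comp x.down)

omit [IsEquivalenceRelation s t] in
/-- Two points of a sheaf agreeing on a covering sieve are equal. -/
theorem hom_ext_of_sieve {F : QuotSh.Sh K S} {T : Over S} {L : Sieve T} (hL : L ∈ QuotSh.J K S T)
    {a b : (yo K S).obj T ⟶ F}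
    (h : ∀ ⦃T' : Over S⦄ (g : T' ⟶ T), L g → (yo K S).map g ≫ a = (yo K S).map g ≫ b) : a = b := by
  apply (QuotSh.J K S).uliftYonedaEquiv.injective
  refine (((isSheaf_iff_isSheaf_of_type _ _).1 F.property) _ hL).isSeparatedFor.ext fun T' g hg => ?_
  rw [GrothendieckTopology.uliftYonedaEquiv_naturality, GrothendieckTopology.uliftYonedaEquiv_naturality, h g hg]

end Groth.Agent.H19Desc
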